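import Cfsg.Prelude.Def_G2
import Mathlib

/-!
The centraliser of the standard involution in the automorphism group of the split octonions.
-/

set_option autoImplicit false
set_option linter.unusedSectionVars false

namespace Cfsg.Agent.G2Oct

open Cfsg.Lie Matrix

variable {F : Type*} [Field F]

abbrev M2 (F : Type*) : Type _ := Matrix (Fin 2) (Fin 2) F

/-- Coordinates adapted to a quaternion subalgebra and its orthogonal complement. -/
def J : (M2 F × M2 F) ≃ₗ[F] (Fin 8 → F) where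
  toFun z := ![z.1 0 0, z.1 1 0, z.2 0 0, z.2 0 1, z.1 0 1, -z.2 1 1, z.2 1 0, z.1 1 1]
  invFun v := (!![v 0, v 4; v 1, v 7], !![v 2, v 3; v 6, -v 5])
  map_add' z z' := by ext i; fin_cases i <;> simp <;> ring
  map_smul' c z := by ext i; fin_cases i <;> simp
  left_inv z := by
    refine Prod.ext ?_ ?_ <;> ext i j <;> fin_cases i <;> fin_cases j <;> simp
  right_inv v := by ext i; fin_cases i <;> simp

theorem zorn_J (X K X' K' : M2 F) :
    zornMul (J (X, K)) (J (X', K')) = J (X' * X - K * adjugate K', X * K' + adjugate X' * K) := by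
  ext i
  fin_cases i <;>
    simp [zornMul, J, dot3, cross3, zA, zB, Matrix.mul_apply, Fin.sum_univ_two, Matrix.adjugate_fin_two, Matrix.vecMul, dotProduct] <;> ring

theorem J_one_unit (v : Fin 8 → F) :
    zornMul (J ((1 : M2 F), (0 : M2 F))) v = v ∧ zornMul v (J ((1 : M2 F), (0 : M2 F))) = v := by
  obtain ⟨⟨X, K⟩, rfl⟩ := (J (F := F)).surjective v
  constructor <;> rw [zorn_J] <;> simp

/-- Pairs of invertible matrices with equal determinants. -/
def Gp (F : Type*) [Field F] : Subgroup (GL (Fin 2) F × GL (Fin 2) F) :=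
  MonoidHom.ker (((Matrix.GeneralLinearGroup.det (n := Fin 2) (R := F)).comp (MonoidHom.fst (GL (Fin 2) F) (GL (Fin 2) F))) *
    ((Matrix.GeneralLinearGroup.det (n := Fin 2) (R := F)).comp (MonoidHom.snd (GL (Fin 2) F) (GL (Fin 2) F)))⁻¹)

theorem mem_Gp {z : GL (Fin 2) F × GL (Fin 2) F} :
    z ∈ Gp F ↔ Matrix.GeneralLinearGroup.det z.1 = Matrix.GeneralLinearGroup.det z.2 := by
  rw [Gp, MonoidHom.mem_ker]
  exact mul_inv_eq_one

/-- The action of a pair. -/
def act (z : Gp F) : (M2 F × M2 F) →ₗ[F] (M2 F × M2 F) where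
  toFun w := (z.1.1.1 * w.1 * (z.1.1⁻¹).1, z.1.1.1 * w.2 * (z.1.2⁻¹).1)
  map_add' w w' := by simp [mul_add, add_mul]
  map_smul' c w := by simp

/-- The matrix of a pair. -/
noncomputable def mat : Gp F →* Matrix (Fin 8) (Fin 8) F where
  toFun z := LinearMap.toMatrix' ((J (F := F)).toLinearMap ∘ₗ act z ∘ₗ (J (F := F)).symm.toLinearMap)
  map_one' := by
    rw [show (J (F := F)).toLinearMap ∘ₗ act (1 : Gp F) ∘ₗ (J (F := F)).symm.toLinearMap = LinearMap.id from
      LinearMap.ext fun v => by simp [act]]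
    exact LinearMap.toMatrix'_id
  map_mul' z z' := by
    rw [← LinearMap.toMatrix'_comp]
    congr 1
    refine LinearMap.ext fun v => ?_
    simp [act, mul_assoc]

theorem mat_mulVec (z : Gp F) (w : M2 F × M2 F) : (mat z) *ᵥ (J w) = J (act z w) := by
  show LinearMap.toMatrix' _ *ᵥ J w = _
  rw [LinearMap.toMatrix'_mulVec]
  simp

theorem mat_mem (z : Gp F) : MonoidHom.toHomUnits mat z ∈ Cfsg.Lie.G2 F := by
  intro u v
  obtain ⟨⟨X, K⟩, rfl⟩ := (J (F := F)).surjective u
  obtain ⟨⟨X', K'⟩, rfl⟩ := (J (F := F)).surjective v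
  show (mat z) *ᵥ zornMul (J (X, K)) (J (X', K')) = zornMul ((mat z) *ᵥ J (X, K)) ((mat z) *ᵥ J (X', K'))
  rw [zorn_J, mat_mulVec, mat_mulVec, mat_mulVec]
  show _ = zornMul (J (_, _)) (J (_, _))
  rw [zorn_J]
  obtain ⟨⟨A, B⟩, hz⟩ := z
  have hdet : A.1.det = B.1.det := congrArg Units.val (mem_Gp.1 hz)
  have hA : A.1.det ≠ 0 := (Matrix.GeneralLinearGroup.det A).ne_zero
  have hadjA : ∀ C : GL (Fin 2) F, adjugate (C⁻¹).1 = C.1.det⁻¹ • C.1 ∧ adjugate C.1 = C.1.det • (C⁻¹).1 := by
    intro C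
    have hC : C.1.det ≠ 0 := (Matrix.GeneralLinearGroup.det C).ne_zero
    have h1 : adjugate C.1 = C.1.det • (C⁻¹).1 := by
      have := congrArg (fun M => (C⁻¹).1 * M) (Matrix.mul_adjugate C.1)
      rwa [← mul_assoc, Units.inv_mul, one_mul, Matrix.mul_smul, mul_one] at this
    refine ⟨?_, h1⟩
    have h2 := congrArg (fun M => adjugate (C⁻¹).1 * M) (Units.mul_inv C)
    have h3 : adjugate C.1 * adjugate (C⁻¹).1 = 1 := by
      rw [← Matrix.adjugate_mul_distrib, Units.inv_mul, Matrix.adjugate_one]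
    rw [h1, Matrix.smul_mul] at h3
    have h4 := congrArg (fun M => C.1.det⁻¹ • (C.1 * M)) h3
    simp only [Matrix.mul_smul, ← mul_assoc, Units.mul_inv, one_mul, mul_one, smul_smul, inv_mul_cancel₀ hC,
      one_smul] at h4
    exact h4
  congr 1
  refine Prod.ext ?_ ?_
  · simp only [act, LinearMap.coe_mk, AddHom.coe_mk, Matrix.adjugate_mul_distrib, (hadjA A).1, (hadjA B).1,
      (hadjA A).2, Matrix.smul_mul, Matrix.mul_smul, smul_smul, hdet]
    rw [mul_inv_cancel₀ (hdet ▸ hA), one_smul]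
    simp only [mul_sub, sub_mul, mul_assoc, Units.inv_mul_cancel_left]
  · simp only [act, LinearMap.coe_mk, AddHom.coe_mk, Matrix.adjugate_mul_distrib, (hadjA A).1,
      (hadjA A).2, Matrix.smul_mul, Matrix.mul_smul, smul_smul]
    rw [mul_inv_cancel₀ hA, one_smul]
    simp only [mul_add, add_mul, mul_assoc, Units.inv_mul_cancel_left]

/-- The homomorphism into the automorphism group. -/
noncomputable def psi : Gp F →* Cfsg.Lie.G2 F := (MonoidHom.toHomUnits mat).codRestrict _ mat_mem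

theorem psi_mulVec (z : Gp F) (w : M2 F × M2 F) : ((psi z).1.1 : Matrix (Fin 8) (Fin 8) F) *ᵥ J w = J (act z w) :=
  mat_mulVec z w

theorem psi_eq_iff {z z' : Gp F} : psi z = psi z' ↔ ∀ w, act z w = act z' w := by
  constructor
  · intro h w
    refine (J (F := F)).injective ?_
    rw [← psi_mulVec, ← psi_mulVec, h]
  · intro h
    refine Subtype.ext (Units.ext (Matrix.ext_iff_mulVec.2 fun v => ?_))
    obtain ⟨w, rfl⟩ := (J (F := F)).surjective v
    rw [psi_mulVec, psi_mulVec, h w]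

theorem psi_eq_one {z : Gp F} (h : psi z = 1) : ∃ a : F, z.1.1.1 = a • 1 ∧ z.1.2.1 = a • 1 := by
  have h' := psi_eq_iff.1 (h.trans (map_one psi).symm)
  have hX : ∀ X : M2 F, z.1.1.1 * X = X * z.1.1.1 := by
    intro X
    have := congrArg (fun p => p.1 * z.1.1.1) (h' (X, 0))
    simpa [act, mul_assoc] using this
  have hK : z.1.1.1 = z.1.2.1 := by
    have := congrArg (fun p => p.2 * z.1.2.1) (h' (0, 1))
    simpa [act, mul_assoc] using this
  obtain ⟨a, ha⟩ : ∃ a : F, z.1.1.1 = a • 1 := by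
    refine ⟨z.1.1.1 0 0, ?_⟩
    have h1 := congrFun (congrFun (hX !![0, 1; 0, 0]) 0) 0
    have h2 := congrFun (congrFun (hX !![0, 1; 0, 0]) 0) 1
    have h3 := congrFun (congrFun (hX !![0, 0; 1, 0]) 0) 0
    simp [Matrix.mul_apply, Fin.sum_univ_two] at h1 h2 h3
    ext i j
    fin_cases i <;> fin_cases j <;> simp [← h1, h2, h3]
  exact ⟨a, ha, hK ▸ ha⟩

/-- The pair giving the involution. -/
def tPair : Gp F := ⟨(1, -1), mem_Gp.2 (Units.ext (by
  show (1 : M2 F).det = (-1 : M2 F).det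
  simp [Matrix.det_fin_two]))⟩

theorem act_tPair (w : M2 F × M2 F) : act tPair w = (w.1, -w.2) := by
  simp [act, tPair]

theorem psi_comm_tPair (z : Gp F) : psi z * psi tPair = psi tPair * psi z := by
  rw [← map_mul, ← map_mul]
  congr 1
  exact Subtype.ext (Prod.ext (by simp [tPair]) (Units.ext (by simp [tPair])))

theorem skolem_two (σ : M2 F →ₗ[F] M2 F) (hm : ∀ X Y, σ (X * Y) = σ X * σ Y) (hinj : Function.Injective σ) :
    ∃ A : GL (Fin 2) F, ∀ X, σ X * A.1 = A.1 * X := by
  have hne : σ (Matrix.single 0 0 1) ≠ 0 := fun h => by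
    have := congrFun (congrFun (hinj (h.trans (map_zero σ).symm)) 0) 0
    simp at this
  obtain ⟨i0, j, hj⟩ : ∃ i j, σ (Matrix.single 0 0 1) i j ≠ 0 := by
    by_contra hc
    push Not at hc
    exact hne (Matrix.ext hc)
  let A : M2 F := Matrix.of fun i l => σ (Matrix.single l 0 1) i j
  have key : ∀ X, σ X * A = A * X := by
    intro X
    ext i l
    have e : X * Matrix.single l 0 1 = ∑ m, X m l • Matrix.single m 0 (1 : F) := by
      ext a b
      fin_cases l <;> fin_cases a <;> fin_cases b <;> simp [Matrix.mul_apply, Fin.sum_univ_two, Matrix.sum_apply]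
    have h := congrFun (congrFun (congrArg σ e) i) j
    rw [hm, map_sum, Matrix.sum_apply] at h
    simp only [map_smul, Matrix.smul_apply, smul_eq_mul] at h
    rw [Matrix.mul_apply] at h
    show (σ X * A) i l = _
    simp only [Matrix.mul_apply, A, Matrix.of_apply]
    rw [h]
    exact Finset.sum_congr rfl fun m _ => mul_comm _ _
  have hdet : A.det ≠ 0 := by
    intro h0
    obtain ⟨x, hx0, hx⟩ := Matrix.exists_mulVec_eq_zero_iff.2 h0
    obtain ⟨l, hl⟩ := Function.ne_iff.1 hx0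
    have hall : ∀ X : M2 F, A *ᵥ (X *ᵥ x) = 0 := fun X => by
      rw [Matrix.mulVec_mulVec, ← key X, ← Matrix.mulVec_mulVec, hx, Matrix.mulVec_zero]
    have h := congrFun (hall (Matrix.single 0 l (x l)⁻¹)) i0
    have e : Matrix.single (0 : Fin 2) l (x l)⁻¹ *ᵥ x = Pi.single 0 1 := by
      ext a
      simp only [Matrix.mulVec, dotProduct]
      rw [Finset.sum_eq_single l (fun b _ hb => by simp [hb.symm]) (by simp)]
      fin_cases a <;> simp [inv_mul_cancel₀ hl]
    rw [e, Matrix.mulVec_single] at h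
    simp at h
    exact hj h
  exact ⟨Matrix.GeneralLinearGroup.mkOfDetNeZero A hdet, key⟩

theorem exists_preimage (h2 : (2 : F) ≠ 0) (g : Cfsg.Lie.G2 F) (hg : g * psi tPair = psi tPair * g) :
    ∃ z : Gp F, psi z = g := by
  set M : Matrix (Fin 8) (Fin 8) F := g.1.1
  let f : (M2 F × M2 F) →ₗ[F] (M2 F × M2 F) :=
    (J (F := F)).symm.toLinearMap ∘ₗ Matrix.toLin' M ∘ₗ (J (F := F)).toLinearMap
  have hf : ∀ w, M *ᵥ J w = J (f w) := fun w => by simp [f]
  have hM : ∀ u v, M *ᵥ zornMul u v = zornMul (M *ᵥ u) (M *ᵥ v) := g.2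
  have hfinj : Function.Injective f := fun a b e => by
    refine (J (F := F)).injective ?_
    have h := congrArg (fun v => (g.1⁻¹).1 *ᵥ v) ((hf a).trans ((congrArg J e).trans (hf b).symm))
    simpa [M, Matrix.mulVec_mulVec] using h
  have hprod : ∀ X K X' K', f (X' * X - K * adjugate K', X * K' + adjugate X' * K) =
      ((f (X', K')).1 * (f (X, K)).1 - (f (X, K)).2 * adjugate (f (X', K')).2,
        (f (X, K)).1 * (f (X', K')).2 + adjugate (f (X', K')).1 * (f (X, K)).2) := by
    intro X K X' K'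
    refine (J (F := F)).injective ?_
    rw [← hf, ← zorn_J, hM, hf, hf, ← zorn_J]
  have hcom : ∀ X K, f (X, -K) = ((f (X, K)).1, -(f (X, K)).2) := by
    intro X K
    refine (J (F := F)).injective ?_
    have h := congrArg (fun u : Cfsg.Lie.G2 F => u.1.1 *ᵥ J (X, K)) hg
    simp only [Subgroup.coe_mul, Units.val_mul, ← Matrix.mulVec_mulVec, psi_mulVec, act_tPair] at h
    rw [hf, hf, psi_mulVec, act_tPair] at h
    exact h
  have hX : ∀ X, (f (X, 0)).2 = 0 := fun X => by
    have h := congrArg Prod.snd (hcom X 0)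
    rw [neg_zero] at h
    ext i j
    have h' := congrFun (congrFun h i) j
    simp only [Matrix.neg_apply] at h'
    exact (mul_eq_zero.1 (show (2 : F) * (f (X, 0)).2 i j = 0 by linear_combination h')).resolve_left h2
  have hK : ∀ K, (f (0, K)).1 = 0 := fun K => by
    have h := congrArg Prod.fst (hcom 0 K)
    rw [show ((0 : M2 F), -K) = -((0 : M2 F), K) by simp, map_neg, Prod.fst_neg] at h
    ext i j
    have h' := congrFun (congrFun h i) j
    simp only [Matrix.neg_apply] at h'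
    exact (mul_eq_zero.1 (show (2 : F) * (f (0, K)).1 i j = 0 by linear_combination -h')).resolve_left h2
  let σ : M2 F →ₗ[F] M2 F := LinearMap.fst F _ _ ∘ₗ f ∘ₗ LinearMap.inl F _ _
  let τ : M2 F →ₗ[F] M2 F := LinearMap.snd F _ _ ∘ₗ f ∘ₗ LinearMap.inr F _ _
  have hσv : ∀ X, f (X, 0) = (σ X, 0) := fun X => Prod.ext rfl (hX X)
  have hτv : ∀ K, f (0, K) = (0, τ K) := fun K => Prod.ext (hK K) rfl
  have hfw : ∀ X K, f (X, K) = (σ X, τ K) := fun X K => by
    rw [show (X, K) = (X, (0 : M2 F)) + ((0 : M2 F), K) by simp, map_add, hσv, hτv]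
    simp
  have hσinj : Function.Injective σ := fun a b e => by
    have := hfinj (show f (a, 0) = f (b, 0) by rw [hσv, hσv, e])
    exact congrArg Prod.fst this
  have hσm : ∀ X Y, σ (X * Y) = σ X * σ Y := by
    intro X Y
    have := congrArg Prod.fst (hprod Y 0 X 0)
    simpa [hfw] using this
  have hστ : ∀ X K, τ (X * K) = σ X * τ K := by
    intro X K
    have := congrArg Prod.snd (hprod X 0 0 K)
    simpa [hfw] using this
  have hττ : σ (-1) = -(τ 1 * adjugate (τ 1)) := by
    have := congrArg Prod.fst (hprod 0 1 0 1)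
    simpa [hfw] using this
  obtain ⟨A, hA⟩ := skolem_two σ hσm hσinj
  have hσA : ∀ X, σ X = A.1 * X * (A⁻¹).1 := fun X => by rw [← hA, mul_assoc, Units.mul_inv, mul_one]
  rw [hσA, Matrix.mul_adjugate] at hττ
  simp at hττ
  have hdetτ : (τ 1).det = 1 := by
    have := congrFun (congrFun hττ 0) 0
    simpa using this.symm
  let T : GL (Fin 2) F := Matrix.GeneralLinearGroup.mkOfDetNeZero (τ 1) (by rw [hdetτ]; exact one_ne_zero)
  refine ⟨⟨(A, T⁻¹ * A), mem_Gp.2 ?_⟩, ?_⟩
  · rw [map_mul, map_inv, show Matrix.GeneralLinearGroup.det T = 1 from Units.ext hdetτ, inv_one, one_mul]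
  · refine Subtype.ext (Units.ext (Matrix.ext_iff_mulVec.2 fun v => ?_))
    obtain ⟨⟨X, K⟩, rfl⟩ := (J (F := F)).surjective v
    rw [psi_mulVec]
    show _ = M *ᵥ J (X, K)
    rw [hf, hfw]
    congr 1
    refine Prod.ext (hσA X).symm ?_
    show A.1 * K * ((T⁻¹ * A)⁻¹).1 = τ K
    rw [_root_.mul_inv_rev, inv_inv, Units.val_mul, ← mul_assoc, ← hσA]
    show σ K * τ 1 = τ K
    rw [← hστ, mul_one]

end Cfsg.Agent.G2Oct
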