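import Cfsg.Agent.Lib.G2Oct.Pairs
import Cfsg.Agent.Lib.FGS.SylowTwoClassical
import Mathlib

/-!
Sylow 2-subgroups of the automorphism group of the split octonions in odd characteristic.
-/

set_option autoImplicit false
set_option linter.unusedSectionVars false

namespace Cfsg.Agent.G2Oct

open Cfsg.Agent.FGS.SqC Matrix

theorem comm_of_comm_nonscalar {F : Type*} [Field F] {u : M2 F} (hu : ¬ ∃ a : F, u = a • 1) {S T : M2 F}
    (hS : u * S = S * u) (hT : u * T = T * u) : S * T = T * S := by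
  have key : ∀ X : M2 F, u * X = X * u → ∃ a b : F, X = a • 1 + b • u := by
    intro X hX
    have h00 := congrFun (congrFun hX 0) 0
    have h01 := congrFun (congrFun hX 0) 1
    have h10 := congrFun (congrFun hX 1) 0
    simp [Matrix.mul_apply, Fin.sum_univ_two] at h00 h01 h10
    have mk : ∀ b : F, X 0 1 = b * u 0 1 → X 1 0 = b * u 1 0 → X 1 1 - X 0 0 = b * (u 1 1 - u 0 0) →
        ∃ a b : F, X = a • 1 + b • u := fun b e1 e2 e3 => by
      refine ⟨X 0 0 - b * u 0 0, b, ?_⟩
      ext i j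
      fin_cases i <;> fin_cases j <;> simp [e1, e2]
      linear_combination e3
    by_cases hb : u 0 1 = 0
    · by_cases hc : u 1 0 = 0
      · have hd : u 1 1 - u 0 0 ≠ 0 := fun hd => hu ⟨u 0 0, by
          ext i j
          fin_cases i <;> fin_cases j <;> simp [hb, hc]
          linear_combination hd⟩
        refine mk ((X 1 1 - X 0 0) / (u 1 1 - u 0 0)) ?_ ?_ (div_mul_cancel₀ _ hd).symm
        · rw [hb, mul_zero]
          refine (mul_eq_zero.1 (show X 0 1 * (u 1 1 - u 0 0) = 0 from ?_)).resolve_right hd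
          rw [hb] at h01
          linear_combination -h01
        · rw [hc, mul_zero]
          refine (mul_eq_zero.1 (show X 1 0 * (u 1 1 - u 0 0) = 0 from ?_)).resolve_right hd
          rw [hc] at h10
          linear_combination h10
      · refine mk (X 1 0 / u 1 0) ?_ (div_mul_cancel₀ _ hc).symm ?_
        · rw [hb, mul_zero]
          refine (mul_eq_zero.1 (show X 0 1 * u 1 0 = 0 from ?_)).resolve_right hc
          rw [hb] at h00
          linear_combination -h00
        · rw [div_mul_eq_mul_div, eq_div_iff hc]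
          linear_combination -h10
    · refine mk (X 0 1 / u 0 1) (div_mul_cancel₀ _ hb).symm ?_ ?_
      · rw [div_mul_eq_mul_div, eq_div_iff hb]
        linear_combination h00
      · rw [div_mul_eq_mul_div, eq_div_iff hb]
        linear_combination h01
  obtain ⟨a, b, rfl⟩ := key S hS
  obtain ⟨c, d, rfl⟩ := key T hT
  simp [mul_add, add_mul, smul_smul, mul_comm]
  abel

variable {F : Type*} [Field F] [Fintype F]

/-- The two factors. -/
def inA : Matrix.SpecialLinearGroup (Fin 2) F →* Gp F :=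
  ((MonoidHom.inl _ _).comp SpecialLinearGroup.toGL).codRestrict _ fun s => mem_Gp.2 (Units.ext (by
    show (s : M2 F).det = (1 : M2 F).det
    simp))

def inB : Matrix.SpecialLinearGroup (Fin 2) F →* Gp F :=
  ((MonoidHom.inr _ _).comp SpecialLinearGroup.toGL).codRestrict _ fun s => mem_Gp.2 (Units.ext (by
    show (1 : M2 F).det = (s : M2 F).det
    simp))

theorem inA_comm_inB (s t : Matrix.SpecialLinearGroup (Fin 2) F) : inA s * inB t = inB t * inA s :=
  Subtype.ext (Prod.ext (by show _ * 1 = 1 * _; simp) (by show 1 * _ = _ * 1; simp))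

theorem toGL_inj : Function.Injective (SpecialLinearGroup.toGL : SpecialLinearGroup (Fin 2) F →* GL (Fin 2) F) :=
  fun _ _ h => Subtype.ext (congrArg Units.val h :)

theorem inA_injective : Function.Injective (inA (F := F)) := fun _ _ h =>
  toGL_inj (congrArg (fun z : Gp F => z.1.1) h)

theorem inB_injective : Function.Injective (inB (F := F)) := fun _ _ h =>
  toGL_inj (congrArg (fun z : Gp F => z.1.2) h)

/-- The product map. -/
def inAB : SpecialLinearGroup (Fin 2) F × SpecialLinearGroup (Fin 2) F →* Gp F :=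
  inA.noncommCoprod inB inA_comm_inB

theorem inAB_apply (z : SpecialLinearGroup (Fin 2) F × SpecialLinearGroup (Fin 2) F) :
    inAB z = inA z.1 * inB z.2 := rfl

theorem inAB_injective : Function.Injective (inAB (F := F)) := fun a b h => by
  refine Prod.ext (toGL_inj ?_) (toGL_inj ?_)
  · have := congrArg (fun z : Gp F => z.1.1) h
    simpa [inAB_apply, inA, inB] using this
  · have := congrArg (fun z : Gp F => z.1.2) h
    simpa [inAB_apply, inA, inB] using this

theorem inAB_range_normal : ((inAB (F := F)).range).Normal := by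
  have e : (inAB (F := F)).range = ((Matrix.GeneralLinearGroup.det.comp
      ((MonoidHom.fst _ _).comp (Gp F).subtype)) : Gp F →* Fˣ).ker := by
    ext z
    constructor
    · rintro ⟨w, rfl⟩
      refine Units.ext ?_
      show ((inAB w).1.1.1 : M2 F).det = 1
      simp [inAB_apply, inA, inB]
    · intro hz
      have h1 : (z.1.1.1 : M2 F).det = 1 := congrArg Units.val hz
      have h2 : (z.1.2.1 : M2 F).det = 1 := by
        have := congrArg Units.val (mem_Gp.1 z.2)
        exact this.symm.trans h1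
      refine ⟨(⟨z.1.1.1, h1⟩, ⟨z.1.2.1, h2⟩), Subtype.ext (Prod.ext ?_ ?_)⟩
      · show SpecialLinearGroup.toGL _ * 1 = _
        rw [mul_one]; exact Units.ext rfl
      · show 1 * SpecialLinearGroup.toGL _ = _
        rw [one_mul]; exact Units.ext rfl
  rw [e]
  exact MonoidHom.normal_ker _

theorem g2_sqComm (hF : Odd (Fintype.card F)) (P : Sylow 2 (Cfsg.Lie.G2 F)) :
    SqComm (P : Subgroup (Cfsg.Lie.G2 F)) := by
  classical
  have h2 : (2 : F) ≠ 0 := Ring.two_ne_zero fun h => by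
    have := FiniteField.even_card_of_char_two h
    rw [Nat.odd_iff] at hF
    omega
  obtain ⟨ε, hε, hεmem⟩ := exists_eps F
  -- the diagonal element with scalar square
  let m : GL (Fin 2) F := Matrix.GeneralLinearGroup.mkOfDetNeZero !![0, -(ε : F); 1, 0]
    (by simp [Matrix.det_fin_two_of])
  have hmsq : (m * m).1 = (-(ε : F)) • (1 : M2 F) := by
    show !![0, -(ε : F); 1, 0] * !![0, -(ε : F); 1, 0] = _
    ext i j; fin_cases i <;> fin_cases j <;> simp
  have hmdet : Matrix.GeneralLinearGroup.det m = ε := Units.ext (by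
    show (!![0, -(ε : F); 1, 0] : M2 F).det = ε
    simp [Matrix.det_fin_two_of])
  let md : Gp F := ⟨(m, m), mem_Gp.2 rfl⟩
  have hmd2 : psi (md * md) = 1 := by
    rw [← map_one (psi (F := F)), psi_eq_iff]
    intro w
    have e : (md * md).1.1 = m * m := rfl
    have e' : (md * md).1.2 = m * m := rfl
    have hinv : ∀ X : M2 F, (m * m).1 * X * ((m * m)⁻¹).1 = X := fun X => by
      rw [show (m * m).1 * X = X * (m * m).1 by rw [hmsq, Matrix.smul_mul, Matrix.mul_smul, one_mul, mul_one],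
        mul_assoc, Units.mul_inv, mul_one]
    refine Prod.ext ?_ ?_ <;> simp only [act, LinearMap.coe_mk, AddHom.coe_mk, e, e', hinv] <;> simp
  obtain ⟨k, hk⟩ : ∃ k, ε ^ 2 ^ k = 1 := ⟨_, hε ▸ pow_orderOf_eq_one ε⟩
  have hmpow : md ^ 2 ^ (k + 2) = 1 := by
    have hm1 : m ^ 2 ^ (k + 2) = 1 := by
      rw [show 2 ^ (k + 2) = 2 * 2 ^ (k + 1) by ring, pow_mul, sq]
      refine Units.ext ?_
      rw [Units.val_pow_eq_pow_val, hmsq, smul_pow, one_pow, (Nat.even_pow.2 ⟨even_two, by omega⟩).neg_pow,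
        ← Units.val_pow_eq_pow_val, show ε ^ 2 ^ (k + 1) = 1 by rw [pow_succ, pow_mul, hk, one_pow]]
      simp
    exact Subtype.ext (Prod.ext hm1 hm1)
  obtain ⟨R', hR'⟩ := (show IsPGroup 2 (Subgroup.zpowers md) from by
    rintro ⟨g, hg⟩
    obtain ⟨j, rfl⟩ := Subgroup.mem_zpowers_iff.1 hg
    exact ⟨k + 2, Subtype.ext (by
      show (md ^ j) ^ 2 ^ (k + 2) = 1
      rw [← zpow_natCast, ← _root_.zpow_mul, mul_comm, _root_.zpow_mul, zpow_natCast, hmpow, _root_.one_zpow])⟩).exists_le_sylow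
  have hmdR : md ∈ (R' : Subgroup (Gp F)) := hR' (Subgroup.mem_zpowers md)
  -- the part in the product of the two special groups
  let S : Subgroup (SpecialLinearGroup (Fin 2) F × SpecialLinearGroup (Fin 2) F) :=
    (R' : Subgroup (Gp F)).comap inAB
  have hSp : IsPGroup 2 S := R'.2.comap_of_injective _ inAB_injective
  have hSmax : ∀ {T : Subgroup (SpecialLinearGroup (Fin 2) F × SpecialLinearGroup (Fin 2) F)}, IsPGroup 2 T → S ≤ T → T = S := by
    intro T hT hST
    haveI := inAB_range_normal (F := F)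
    obtain ⟨T', hT'⟩ := (hT.map inAB).exists_le_sylow
    obtain ⟨g, hg⟩ := MulAction.exists_smul_eq (Gp F) T' R'
    refine (Subgroup.eq_of_le_of_card_ge hST ?_).symm
    have hsub : ((T.map inAB).map (MulAut.conj g).toMonoidHom) ≤ S.map inAB := by
      rintro _ ⟨y, hy, rfl⟩
      obtain ⟨x, hxe⟩ : ∃ x, inAB x = (MulAut.conj g) y := by
        obtain ⟨t, -, rfl⟩ := hy
        exact inAB_range_normal.conj_mem _ ⟨t, rfl⟩ g
      refine ⟨x, ?_, hxe⟩
      show inAB x ∈ (R' : Subgroup (Gp F))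
      rw [hxe, ← hg]
      exact ⟨y, hT' hy, rfl⟩
    have h := Subgroup.card_le_of_le hsub
    rwa [Subgroup.card_map_of_injective (MulAut.conj g).injective, Subgroup.card_map_of_injective inAB_injective,
      Subgroup.card_map_of_injective inAB_injective] at h
  let TA := S.map (MonoidHom.fst _ _)
  let TB := S.map (MonoidHom.snd _ _)
  have hprod : TA.prod TB = S := by
    refine hSmax ?_ fun z hz => ⟨⟨z, hz, rfl⟩, ⟨z, hz, rfl⟩⟩
    intro z
    obtain ⟨a, ha⟩ := hSp.map (MonoidHom.fst _ _) ⟨z.1.1, z.2.1⟩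
    obtain ⟨b, hb⟩ := hSp.map (MonoidHom.snd _ _) ⟨z.1.2, z.2.2⟩
    refine ⟨a + b, Subtype.ext (Prod.ext ?_ ?_)⟩
    · show z.1.1 ^ _ = 1
      rw [pow_add, pow_mul, show z.1.1 ^ 2 ^ a = 1 from congrArg Subtype.val ha, one_pow]
    · show z.1.2 ^ _ = 1
      rw [pow_add, mul_comm, pow_mul, show z.1.2 ^ 2 ^ b = 1 from congrArg Subtype.val hb, one_pow]
  obtain ⟨SA, hSA⟩ := (hSp.map (MonoidHom.fst _ _)).exists_le_sylow
  obtain ⟨SB, hSB⟩ := (hSp.map (MonoidHom.snd _ _)).exists_le_sylow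
  have hfull : (SA : Subgroup (SpecialLinearGroup (Fin 2) F)).prod (SB : Subgroup _) = S := by
    refine hSmax ?_ fun z hz => ⟨hSA ⟨z, hz, rfl⟩, hSB ⟨z, hz, rfl⟩⟩
    intro z
    obtain ⟨a, ha⟩ := SA.2 ⟨z.1.1, z.2.1⟩
    obtain ⟨b, hb⟩ := SB.2 ⟨z.1.2, z.2.2⟩
    refine ⟨a + b, Subtype.ext (Prod.ext ?_ ?_)⟩
    · show z.1.1 ^ _ = 1
      rw [pow_add, pow_mul, show z.1.1 ^ 2 ^ a = 1 from congrArg Subtype.val ha, one_pow]
    · show z.1.2 ^ _ = 1
      rw [pow_add, mul_comm, pow_mul, show z.1.2 ^ 2 ^ b = 1 from congrArg Subtype.val hb, one_pow]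
  have hA : ∀ a ∈ (SA : Subgroup (SpecialLinearGroup (Fin 2) F)), inA a ∈ (R' : Subgroup (Gp F)) := fun a ha => by
    have : inAB (a, 1) ∈ (R' : Subgroup (Gp F)) := hfull.le (x := (a, 1)) ⟨ha, one_mem _⟩
    simpa [inAB_apply] using this
  have hB : ∀ b ∈ (SB : Subgroup (SpecialLinearGroup (Fin 2) F)), inB b ∈ (R' : Subgroup (Gp F)) := fun b hb => by
    have : inAB (1, b) ∈ (R' : Subgroup (Gp F)) := hfull.le (x := (1, b)) ⟨one_mem _, hb⟩
    simpa [inAB_apply] using this
  -- the image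
  set R : Subgroup (Cfsg.Lie.G2 F) := (R' : Subgroup (Gp F)).map psi
  let ψR : (R' : Subgroup (Gp F)) →* R :=
    (psi.comp (R' : Subgroup (Gp F)).subtype).codRestrict _ fun x => ⟨x.1, x.2, rfl⟩
  have hRsq : SqComm R := by
    rintro ⟨g, x, hx, rfl⟩
    rw [← mem_sqSub]
    obtain ⟨j, hj⟩ : ∃ j : ℕ, Matrix.GeneralLinearGroup.det x.1.1 = ε ^ j := by
      obtain ⟨a, ha⟩ := R'.2 ⟨x, hx⟩
      set u := Matrix.GeneralLinearGroup.det x.1.1
      have hu : u ^ 2 ^ a = 1 := by
        rw [← map_pow, show x.1.1 ^ 2 ^ a = 1 from congrArg (fun z : Gp F => z.1.1) (congrArg Subtype.val ha :),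
          map_one]
      have h2 : orderOf u ∣ Fintype.card F - 1 := by
        rw [← Nat.card_eq_fintype_card, ← Nat.card_units]; exact orderOf_dvd_natCard u
      obtain ⟨j, -, hj⟩ := (Nat.dvd_prime_pow Nat.prime_two).1 (orderOf_dvd_of_pow_eq_one hu)
      have hmem : u ∈ Subgroup.zpowers ε := hεmem u (orderOf_dvd_iff_pow_eq_one.1 (by
        rw [hj] at h2 ⊢
        exact pow_dvd_pow 2 ((padicValNat_dvd_iff_le (by have := Fintype.one_lt_card (α := F); omega)).1 h2)))
      obtain ⟨i, hi⟩ := (Submonoid.mem_powers_iff _ _).1 ((mem_powers_iff_mem_zpowers).2 hmem)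
      exact ⟨i, hi.symm⟩
    set y : Gp F := x * (md ^ j)⁻¹
    have hy : y ∈ (R' : Subgroup (Gp F)) := mul_mem hx (inv_mem (pow_mem hmdR j))
    have hyd : Matrix.GeneralLinearGroup.det y.1.1 = 1 := by
      show Matrix.GeneralLinearGroup.det (x.1.1 * (m ^ j)⁻¹) = 1
      rw [map_mul, map_inv, map_pow, hmdet, hj, mul_inv_cancel]
    have hyd2 : Matrix.GeneralLinearGroup.det y.1.2 = 1 := (mem_Gp.1 y.2).symm.trans hyd
    let a : SpecialLinearGroup (Fin 2) F := ⟨y.1.1.1, congrArg Units.val hyd⟩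
    let b : SpecialLinearGroup (Fin 2) F := ⟨y.1.2.1, congrArg Units.val hyd2⟩
    have hab : inAB (a, b) = y := by
      refine Subtype.ext (Prod.ext ?_ ?_)
      · show SpecialLinearGroup.toGL _ * 1 = _
        rw [mul_one]; exact Units.ext rfl
      · show 1 * SpecialLinearGroup.toGL _ = _
        rw [one_mul]; exact Units.ext rfl
    obtain ⟨haA, hbB⟩ := hfull.ge (show (a, b) ∈ S by show inAB (a, b) ∈ (R' : Subgroup (Gp F)); rw [hab]; exact hy)
    have e : (⟨x, hx⟩ : (R' : Subgroup (Gp F))) =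
        ⟨inA a, hA a haA⟩ * ⟨inB b, hB b hbB⟩ * ⟨md, hmdR⟩ ^ j :=
      Subtype.ext (by
        show x = inA a * inB b * md ^ j
        rw [← inAB_apply (a, b), hab]
        simp [y])
    show ψR ⟨x, hx⟩ ∈ sqSub R
    rw [e, map_mul, map_mul, map_pow]
    refine mul_mem (mul_mem ?_ ?_) (pow_mem ?_ j)
    · exact hom_sqSub (ψR.comp ((inA.comp (SA : Subgroup _).subtype).codRestrict _ fun z => hA z.1 z.2))
        (sylow_SL2_sqComm hF SA) ⟨a, haA⟩
    · exact hom_sqSub (ψR.comp ((inB.comp (SB : Subgroup _).subtype).codRestrict _ fun z => hB z.1 z.2))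
        (sylow_SL2_sqComm hF SB) ⟨b, hbB⟩
    · refine sqSub_of_invol (Subtype.ext ?_)
      show psi md * psi md = 1
      rw [← map_mul, hmd2]
  -- the centraliser of the involution
  set t : Cfsg.Lie.G2 F := psi tPair
  set C : Subgroup (Cfsg.Lie.G2 F) := Subgroup.centralizer {t}
  have hRC : R ≤ C := by
    rintro _ ⟨x, -, rfl⟩
    exact Subgroup.mem_centralizer_singleton_iff.2 (psi_comm_tPair x)
  let ψC : Gp F →* C := psi.codRestrict C fun x => Subgroup.mem_centralizer_singleton_iff.2 (psi_comm_tPair x)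
  have hψC : Function.Surjective ψC := fun g => by
    obtain ⟨z, hz⟩ := exists_preimage h2 g.1 (Subgroup.mem_centralizer_singleton_iff.1 g.2)
    exact ⟨z, Subtype.ext hz⟩
  have hRmax : ∀ T : Subgroup (Cfsg.Lie.G2 F), IsPGroup 2 T → R ≤ T → T ≤ C → T = R := by
    intro T hT hRT hTC
    have h1 : IsPGroup 2 (T.subgroupOf C) := hT.comap_of_injective _ C.subtype_injective
    have h2' := (R'.mapSurjective hψC).3 h1 (by
      rw [Sylow.coe_mapSurjective]
      rintro _ ⟨x, hx, rfl⟩
      exact hRT ⟨x, hx, rfl⟩)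
    refine le_antisymm (fun z hz => ?_) hRT
    have : (⟨z, hTC hz⟩ : C) ∈ T.subgroupOf C := hz
    rw [h2', Sylow.coe_mapSurjective] at this
    obtain ⟨x, hx, e⟩ := this
    exact ⟨x, hx, congrArg Subtype.val e⟩
  have hcen : ∀ z ∈ R, (∀ r ∈ R, z * r = r * z) → z = 1 ∨ z = t := by
    rintro _ ⟨x, hx, rfl⟩ hc
    have key : ∀ (i : SpecialLinearGroup (Fin 2) F →* Gp F) (T : Sylow 2 (SpecialLinearGroup (Fin 2) F)),
        (∀ a ∈ (T : Subgroup _), i a ∈ (R' : Subgroup (Gp F))) → ∀ a ∈ (T : Subgroup (SpecialLinearGroup (Fin 2) F)),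
        ∃ c : F, (x * i a).1.1.1 = c • (i a * x).1.1.1 ∧ (x * i a).1.2.1 = c • (i a * x).1.2.1 := by
      intro i T hi a ha
      have e := hc _ ⟨i a, hi a ha, rfl⟩
      rw [← map_mul, ← map_mul] at e
      obtain ⟨c, h1, h2⟩ := psi_eq_one (z := x * i a * (i a * x)⁻¹) (by rw [map_mul, map_inv, e, mul_inv_cancel])
      refine ⟨c, ?_, ?_⟩
      · have h := congrArg (fun M => M * (i a * x).1.1.1) h1
        simpa [Subgroup.coe_mul, mul_assoc] using h
      · have h := congrArg (fun M => M * (i a * x).1.2.1) h2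
        simpa [Subgroup.coe_mul, mul_assoc] using h
    have hscal : ∀ (T : Sylow 2 (SpecialLinearGroup (Fin 2) F)) (u : M2 F),
        (∀ a ∈ (T : Subgroup (SpecialLinearGroup (Fin 2) F)), u * a.1 = a.1 * u) → ∃ c : F, u = c • 1 := by
      intro T u hu
      by_contra hne
      obtain ⟨k, hk, ⟨e⟩⟩ := S0261.result hF T
      have hc' : ∀ a b : QuaternionGroup (2 ^ k), a * b = b * a := fun a b => e.symm.injective (by
        rw [map_mul, map_mul]
        refine Subtype.ext (Subtype.ext ?_)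
        show (e.symm a).1.1 * (e.symm b).1.1 = (e.symm b).1.1 * (e.symm a).1.1
        exact comm_of_comm_nonscalar hne (hu _ (e.symm a).2) (hu _ (e.symm b).2))
      have h := hc' (QuaternionGroup.a 1) (QuaternionGroup.xa 0)
      simp only [QuaternionGroup.a_mul_xa, QuaternionGroup.xa_mul_a, QuaternionGroup.xa.injEq] at h
      have h3 : ((2 : ℕ) : ZMod (2 * 2 ^ k)) = 0 := by
        push_cast
        linear_combination -h
      rw [ZMod.natCast_eq_zero_iff] at h3
      have := Nat.le_of_dvd two_pos h3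
      have : 2 ≤ 2 ^ k := le_self_pow₀ one_le_two (by omega)
      omega
    have hx0 : ∀ (y : GL (Fin 2) F) (c : F), y.1 = c • y.1 → c = 1 := fun y c e => by
      by_contra hc'
      have h0 : ((1 : F) - c) • y.1 = 0 := by rw [sub_smul, one_smul, ← e, sub_self]
      rcases smul_eq_zero.1 h0 with h | h
      · exact hc' (sub_eq_zero.1 h).symm
      · exact y.ne_zero h
    have hu : ∀ a ∈ (SA : Subgroup (SpecialLinearGroup (Fin 2) F)), x.1.1.1 * a.1 = a.1 * x.1.1.1 := by
      intro a ha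
      obtain ⟨c, h1, h2⟩ := key inA SA hA a ha
      simp [inA] at h1 h2
      rw [hx0 _ c h2, one_smul] at h1
      exact h1
    have hv : ∀ a ∈ (SB : Subgroup (SpecialLinearGroup (Fin 2) F)), x.1.2.1 * a.1 = a.1 * x.1.2.1 := by
      intro a ha
      obtain ⟨c, h1, h2⟩ := key inB SB hB a ha
      simp [inB] at h1 h2
      rw [hx0 _ c h1, one_smul] at h2
      exact h2
    obtain ⟨c, hc1⟩ := hscal SA _ hu
    obtain ⟨d, hd1⟩ := hscal SB _ hv
    have hdet : x.1.1.1.det = x.1.2.1.det := congrArg Units.val (mem_Gp.1 x.2)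
    rw [hc1, hd1] at hdet
    simp [Matrix.det_fin_two] at hdet
    have hc0 : c ≠ 0 := fun h => x.1.1.ne_zero (by rw [hc1, h, zero_smul])
    have hd0 : d ≠ 0 := fun h => x.1.2.ne_zero (by rw [hd1, h, zero_smul])
    have hinv : ∀ (y : GL (Fin 2) F) (e : F), y.1 = e • 1 → e ≠ 0 → (y⁻¹).1 = e⁻¹ • 1 := fun y e he he0 => by
      have := Units.mul_inv y
      rw [he, Matrix.smul_mul, one_mul] at this
      rw [← this, smul_smul, inv_mul_cancel₀ he0, one_smul]
    rcases sq_eq_sq_iff_eq_or_eq_neg.1 hdet with e | e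
    · left
      rw [← map_one (psi (F := F)), psi_eq_iff]
      intro w
      simp only [act, LinearMap.coe_mk, AddHom.coe_mk, hinv _ _ hc1 hc0, hinv _ _ hd1 hd0]
      simp [hc1, smul_smul, ← e, hc0]
    · right
      rw [psi_eq_iff]
      intro w
      rw [act_tPair]
      simp only [act, LinearMap.coe_mk, AddHom.coe_mk, hinv _ _ hc1 hc0, hinv _ _ hd1 hd0]
      simp [hc1, smul_smul, e, hd0]
  have ht1 : t ≠ 1 := fun h => by
    obtain ⟨a, h1, h2'⟩ := psi_eq_one h
    have e1 := congrFun (congrFun h1 0) 0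
    have e2 := congrFun (congrFun h2' 0) 0
    simp [tPair] at e1 e2
    exact h2 (by linear_combination e1 - e2)
  have htR : t ∈ R := by
    obtain ⟨T', hT'⟩ : ∃ T' : Subgroup (Cfsg.Lie.G2 F), T' = R ⊔ Subgroup.zpowers t := ⟨_, rfl⟩
    have htC : t ∈ C := Subgroup.mem_centralizer_singleton_iff.2 rfl
    have hR2 : IsPGroup 2 R := R'.2.map _
    have ht2 : t * t = 1 := by
      rw [← map_mul, ← map_one (psi (F := F))]
      congr 1
      exact Subtype.ext (Prod.ext (one_mul 1) (by simp [tPair]))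
    have hz : IsPGroup 2 (Subgroup.zpowers t) := IsPGroup.of_card (n := 1) (by
      rw [Nat.card_zpowers, pow_one]
      exact orderOf_eq_prime (by rw [sq, ht2]) ht1)
    have hnorm : R ≤ Subgroup.normalizer (Subgroup.zpowers t : Set (Cfsg.Lie.G2 F)) := fun r hr =>
      Subgroup.centralizer_le_normalizer _ (Subgroup.mem_centralizer_iff.2 fun z hz => by
        obtain ⟨i, rfl⟩ := Subgroup.mem_zpowers_iff.1 hz
        exact ((show Commute t r from (Subgroup.mem_centralizer_singleton_iff.1 (hRC hr)).symm).zpow_left i).eq)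
    have hp : IsPGroup 2 T' := hT' ▸ hR2.to_sup_of_normal_right' hz hnorm
    have := hRmax T' hp (hT' ▸ le_sup_left) (hT' ▸ sup_le hRC (Subgroup.zpowers_le.2 htC))
    rw [← this, hT']
    exact Subgroup.mem_sup_right (Subgroup.mem_zpowers t)
  have hR2 : IsPGroup 2 R := R'.2.map _
  obtain ⟨P0, hP0⟩ := hR2.exists_le_sylow
  have heq : (P0 : Subgroup (Cfsg.Lie.G2 F)) = R := by
    by_contra hne
    haveI : Group.IsNilpotent (P0 : Subgroup (Cfsg.Lie.G2 F)) := P0.2.isNilpotent
    have hlt : R.subgroupOf P0 < ⊤ := lt_top_iff_ne_top.2 fun h =>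
      hne (le_antisymm (Subgroup.subgroupOf_eq_top.1 h) hP0)
    obtain ⟨y, hy, hyR⟩ := SetLike.exists_of_lt (Group.normalizerCondition_of_isNilpotent _ hlt)
    have hyn : ∀ r, r ∈ R ↔ y.1 * r * y.1⁻¹ ∈ R := by
      intro r
      constructor
      · intro hr
        exact (Subgroup.mem_normalizer_iff.1 hy ⟨r, hP0 hr⟩).1 hr
      · intro hr
        have hrP : r ∈ (P0 : Subgroup (Cfsg.Lie.G2 F)) := by
          have := mul_mem (mul_mem (inv_mem y.2) (hP0 hr)) y.2
          simpa [mul_assoc] using this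
        exact (Subgroup.mem_normalizer_iff.1 hy ⟨r, hrP⟩).2 hr
    have hyt : y.1 * t * y.1⁻¹ = t := by
      refine ((hcen _ ((hyn t).1 htR) fun r hr => ?_).resolve_left fun h => ht1 (by simpa using h))
      have h1 : y.1⁻¹ * r * y.1 ∈ R := (hyn _).2 (by simpa [mul_assoc] using hr)
      have h2' := Subgroup.mem_centralizer_singleton_iff.1 (hRC h1)
      calc y.1 * t * y.1⁻¹ * r = y.1 * (t * (y.1⁻¹ * r * y.1)) * y.1⁻¹ := by group
        _ = y.1 * ((y.1⁻¹ * r * y.1) * t) * y.1⁻¹ := by rw [h2']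
        _ = r * (y.1 * t * y.1⁻¹) := by group
    have hyC : y.1 ∈ C := Subgroup.mem_centralizer_singleton_iff.2 (by
      conv_rhs => rw [← hyt]
      group)
    have hmax := hRmax ((P0 : Subgroup (Cfsg.Lie.G2 F)) ⊓ C) (P0.2.to_le inf_le_left) (le_inf hP0 hRC) inf_le_right
    exact hyR (hmax.le ⟨y.2, hyC⟩)
  exact sqComm_of_equiv ((MulEquiv.subgroupCongr heq.symm).trans (P0.equiv P)) hRsq

end Cfsg.Agent.G2Oct
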